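import Mathlib
import Cfsg.Agent.Lib.Helper12.KS.Defs

set_option autoImplicit false

/-! S0518 project, package MaxB: in case B, `P₁ ⊓ H` is a maximal 2-local of `H = oddGen G`. -/

namespace Cfsg.Agent.Lib.Helper72.KS

open Cfsg Cfsg.Agent.Lib.Helper12.KS

universe u

theorem pkgMaxB (hO1 : PkgO1.{u}) (hO2 : PkgO2.{u}) (hNrm : PkgNrm.{u}) (hNor2 : PkgNor2.{u})
    (hMaxB3 : PkgMaxB3.{u}) : PkgMaxB.{u} := by
  intro G _ _ P₁ P₂ T Q₁ Q₂ W₁ W₂ c₁ c₂ hB hc hTH hcard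
  have hb := hO1 hB.side₁
  have ho := hO2 hB.side₁
  obtain ⟨-, hNW, -⟩ := hNrm hB.max₁ hB.side₁
  have hW2 : IsPGroup 2 ↥W₁ := by
    have : Nat.card ↥W₁ = 2 ^ 2 := by rw [hb.card_W]; norm_num
    exact IsPGroup.of_card this
  have hWne : W₁ ≠ ⊥ := by
    intro h
    have := hb.card_W
    rw [h] at this
    simp at this
  have hWP : W₁ ≤ P₁ := hb.W_le_Q.trans (hb.Q_le_T.trans hb.T_le_P)
  have hWK : W₁ ≤ P₁ ⊓ oddGen G := le_inf hWP ho.W_le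
  refine ⟨inf_le_right, ⟨W₁, ho.W_le, hW2, hWne, by rw [hNW]⟩, ?_⟩
  intro R hRH hR2 hRne hKR
  have hRK : R ≤ P₁ ⊓ oddGen G := hMaxB3 hB hc hTH hcard R hRH hR2 hKR
  have hcK : c₁ ∉ P₁ ⊓ oddGen G := fun h => hc (Subgroup.mem_inf.mp h).2
  have hnorm : ∀ k ∈ P₁ ⊓ oddGen G, ∀ n ∈ R, k * n * k⁻¹ ∈ R := by
    intro k hk n hn
    exact (Subgroup.mem_normalizer_iff.mp (hKR hk) n).mp hn
  rcases hNor2 hB.side₁ (P₁ ⊓ oddGen G) inf_le_left hcK hcard hWK R hRK hR2 hnorm with h | h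
  · exact absurd h hRne
  · rw [h, hNW]

end Cfsg.Agent.Lib.Helper72.KS
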